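import Groth.Agent.Lib.LocAcyc.FlatDivide

/-!
# Integral closedness of flat algebras with separable fibres over a normal domain
-/

set_option linter.all false

universe u

open Polynomial

namespace GrothLib.EtaMod10

open TensorProduct

set_option backward.isDefEq.respectTransparency.types false

variable {A E : Type u} [CommRing A] [IsDomain A] [IsIntegrallyClosed A] [CommRing E] [Algebra A E]
  [Algebra.FinitePresentation A E] [Module.Flat A E]

/-- At a smooth point, divisibility holds locally. -/
theorem exists_notMem_mul_mem {t : A} (ht : t ≠ 0) {b : E} {p : E[X]} (hp : p.Monic)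
    (h : (p.scaleRoots (algebraMap A E t)).eval b = 0) (q : Ideal E) [q.IsPrime]
    [Algebra.IsSmoothAt A q] : ∃ s ∉ q, s * b ∈ Ideal.span {algebraMap A E t} := by
  obtain ⟨g, hg, hstd⟩ := Algebra.IsSmoothAt.exists_notMem_isStandardSmooth A q
  have hf : (algebraMap A (Localization.Away g)).IsStandardSmooth :=
    RingHom.isStandardSmooth_algebraMap.2 hstd
  obtain ⟨n, φ, -, hφ⟩ := hf.exists_etale_mvPolynomial
  letI : Algebra (MvPolynomial (Fin n) A) (Localization.Away g) := φ.toAlgebra
  haveI : Algebra.Etale (MvPolynomial (Fin n) A) (Localization.Away g) := hφ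
  haveI : IsIntegrallyClosed (MvPolynomial (Fin n) A) := SpecDense.isIntegrallyClosed_mvPolynomial_fin n
  haveI : Module.Flat E (Localization.Away g) := IsLocalization.flat _ (Submonoid.powers g)
  haveI : Module.Flat A (Localization.Away g) := Module.Flat.trans A E _
  let q' := q.map (algebraMap E (Localization.Away g))
  have hd : Disjoint (↑(Submonoid.powers g) : Set E) ↑q := (Ideal.disjoint_powers_iff_notMem_of_isPrime g).2 hg
  haveI : q'.IsPrime := IsLocalization.isPrime_of_isPrime_disjoint (Submonoid.powers g) _ q ‹_› hd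
  have hq' : q'.comap (algebraMap E (Localization.Away g)) = q :=
    IsLocalization.comap_map_of_isPrime_disjoint (Submonoid.powers g) (Localization.Away g) ‹_› hd
  let ι := algebraMap E (Localization.Away g)
  let T := ι (algebraMap A E t)
  have hT : ∀ z : Localization.Away g, T * z = 0 → z = 0 := fun z hz => by
    have hinj := Module.Flat.isSMulRegular_of_isRegular (R := A) (M := Localization.Away g)
      (IsRegular.of_ne_zero ht)
    refine hinj (?_ : t • z = t • (0 : Localization.Away g))
    rw [smul_zero, Algebra.smul_def, IsScalarTower.algebraMap_apply A E (Localization.Away g)]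
    exact hz
  haveI : Nontrivial (Localization.Away g) := nontrivial_of_ne 1 0 fun h10 =>
    Ideal.IsPrime.ne_top ‹q'.IsPrime› ((Ideal.eq_top_iff_one _).2 (h10 ▸ q'.zero_mem))
  obtain ⟨w, s, hs, hsw⟩ := (Hensel.isNormalDomain_localization_of_etale (MvPolynomial (Fin n) A) q').2
    (p.map ι) (ι b) T (hp.map ι)
    (fun z hz h0 => hz ((hT z (by rwa [mul_comm])) ▸ q'.zero_mem))
    ⟨1, fun h1 => Ideal.IsPrime.ne_top ‹q'.IsPrime› ((Ideal.eq_top_iff_one _).2 h1), by
      rw [one_mul]
      have e : ((p.map ι).scaleRoots T).eval (ι b) = 0 := by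
        rw [← Polynomial.map_scaleRoots _ _ _ (by rw [hp.leadingCoeff, map_one]; exact one_ne_zero),
          Polynomial.eval_map, Polynomial.eval₂_hom, h, map_zero]
      refine Eq.trans ?_ e
      rw [Polynomial.eval_eq_sum_range, Polynomial.natDegree_scaleRoots]
      refine Finset.sum_congr rfl fun i _ => ?_
      rw [Polynomial.coeff_scaleRoots]
      ring⟩
  obtain ⟨⟨s₀, m⟩, hm⟩ := IsLocalization.surj (Submonoid.powers g) s
  obtain ⟨⟨w₀, k⟩, hk⟩ := IsLocalization.surj (Submonoid.powers g) w
  have h1 : ι (s₀ * b * k) = ι (algebraMap A E t * w₀ * m) := by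
    simp only [map_mul, ι] at hm hk ⊢
    rw [← hm, ← hk]
    linear_combination (algebraMap E (Localization.Away g) (m : E) * algebraMap E (Localization.Away g) (k : E)) * hsw
  obtain ⟨v, hv⟩ := (IsLocalization.eq_iff_exists (Submonoid.powers g) _).1 h1
  refine ⟨v * k * s₀, ?_, ?_⟩
  · refine Ideal.IsPrime.mul_notMem ‹_› (Ideal.IsPrime.mul_notMem ‹_› (Set.disjoint_left.1 hd v.2)
      (Set.disjoint_left.1 hd k.2)) ?_
    intro hs₀
    rw [← hq', Ideal.mem_comap, ← hm] at hs₀
    exact hs ((Ideal.IsPrime.mem_or_mem ‹q'.IsPrime› hs₀).resolve_right fun h2 =>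
      Set.disjoint_left.1 hd m.2 (hq' ▸ h2 : (m : E) ∈ q))
  · rw [show (v : E) * k * s₀ * b = v * (s₀ * b * k) by ring, hv,
      show (v : E) * (algebraMap A E t * w₀ * m) = (v * w₀ * m) * algebraMap A E t by ring]
    exact Ideal.mul_mem_left _ _ (Ideal.mem_span_singleton_self _)

/-- A solution of a homogenised monic equation in a flat finitely presented algebra with separable fibres over a normal domain. -/
theorem mem_span_of_flat_fp (hred : ∀ (K : Type u) [Field K] [Algebra A K], _root_.IsReduced (K ⊗[A] E))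
    (t : A) (ht : t ≠ 0) (b : E)
    (p : E[X]) (hp : p.Monic) (h : (p.scaleRoots (algebraMap A E t)).eval b = 0) : b ∈ Ideal.span {algebraMap A E t} := by
  classical
  let T := algebraMap A E t
  by_contra hb
  let J : Ideal E := (Ideal.span {T}).colon (Ideal.span {b})
  have hJmem : ∀ s : E, s ∈ J ↔ s * b ∈ Ideal.span {T} := fun s => by
    refine ⟨fun hs => Submodule.mem_colon.1 hs b (Ideal.mem_span_singleton_self b), fun hs => ?_⟩
    refine Submodule.mem_colon.2 fun p hp => ?_
    obtain ⟨c, rfl⟩ := Ideal.mem_span_singleton'.1 hp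
    rw [smul_eq_mul, mul_left_comm]
    exact Ideal.mul_mem_left _ c hs
  obtain ⟨𝔓, h𝔓, hJ𝔓⟩ := Ideal.exists_le_maximal J fun hJ => hb (by
    simpa using (hJmem 1).1 (hJ ▸ Submodule.mem_top))
  let Q := 𝔓.comap (algebraMap A E)
  haveI : Q.IsPrime := Ideal.IsPrime.comap _
  let F := Q.ResidueField ⊗[A] E
  haveI : IsNoetherianRing F := Algebra.FiniteType.isNoetherianRing Q.ResidueField _
  haveI : _root_.IsReduced F := hred Q.ResidueField
  haveI : Algebra.IsGeometricallyReduced Q.ResidueField F := by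
    rw [Algebra.isGeometricallyReduced_field_iff]
    haveI := hred (AlgebraicClosure Q.ResidueField)
    exact isReduced_of_injective
      (Algebra.TensorProduct.cancelBaseChange A Q.ResidueField Q.ResidueField (AlgebraicClosure Q.ResidueField) E)
      (Algebra.TensorProduct.cancelBaseChange A Q.ResidueField Q.ResidueField (AlgebraicClosure Q.ResidueField) E).injective
  let ι : E →ₐ[A] F := Algebra.TensorProduct.includeRight
  have hnot : ∀ q₀ ∈ minimalPrimes F, ∃ g ∈ J, ι g ∉ q₀ := by
    intro q₀ hq₀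
    haveI : q₀.IsPrime := hq₀.1.1
    haveI : (q₀.comap ι).IsPrime := Ideal.IsPrime.comap _
    haveI : Algebra.IsSmoothAt A (q₀.comap ι) :=
      LocProp.isSmoothAt_of_flat_of_fibre Q q₀ (LocAcyc.isSmoothAt_of_mem_minimalPrimes q₀ hq₀)
        (Module.Flat.trans A E (Localization.AtPrime (q₀.comap ι)))
    obtain ⟨s, hs, hsb⟩ := exists_notMem_mul_mem ht hp h (q₀.comap ι)
    exact ⟨s, (hJmem s).2 hsb, hs⟩
  letI : Algebra E F := ι.toRingHom.toAlgebra
  obtain ⟨s, hs, hreg⟩ := FibreFlat.exists_regular_of_torsion (B := E) (B' := F) (N := F) J fun z hz => by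
    refine IsReduced.eq_zero z (mem_nilradical.1 ?_)
    rw [nilradical, ← Ideal.sInf_minimalPrimes (I := (0 : Ideal F))]
    refine Submodule.mem_sInf.2 fun q₀ hq₀ => ?_
    obtain ⟨g, hg, hgq⟩ := hnot q₀ hq₀
    have hp : Ideal.IsPrime (q₀ : Ideal F) := hq₀.1.1
    exact (hp.mem_or_mem (show ι g * z ∈ q₀ from
      (show ι g * z = 0 from hz g hg) ▸ Submodule.zero_mem _)).resolve_left hgq
  have hcomm : ∀ (g : E) (z : E ⊗[A] Q.ResidueField), TensorProduct.comm A E Q.ResidueField (g • z) =
      ι g * TensorProduct.comm A E Q.ResidueField z := fun g z => by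
    induction z with
    | zero => rw [smul_zero, map_zero, mul_zero]
    | tmul e κ =>
      rw [TensorProduct.smul_tmul', TensorProduct.comm_tmul, TensorProduct.comm_tmul]
      show κ ⊗ₜ[A] (g * e) = ((1 : Q.ResidueField) ⊗ₜ[A] g) * (κ ⊗ₜ[A] e)
      rw [Algebra.TensorProduct.tmul_mul_tmul, one_mul]
    | add x y hx hy => rw [smul_add, map_add, hx, hy, map_add, mul_add]
  have hflat : Module.Flat A (LocalizedModule 𝔓.primeCompl E) := FlatModel.flat_localizedModule _
  have hu := FibreFlat.univ_regular (A := A) (B := E) (M := E) (K := Q.ResidueField) 𝔓 hflat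
    (Ideal.ker_algebraMap_residueField Q) s (fun z hz => by
      refine ⟨1, fun h1 => h𝔓.ne_top ((Ideal.eq_top_iff_one _).2 h1), ?_⟩
      rw [one_smul]
      refine (TensorProduct.comm A E Q.ResidueField).injective ((hreg _ ?_).trans (map_zero _).symm)
      show ι s * _ = 0
      rw [← hcomm, hz, map_zero]) (A ⧸ Ideal.span {t})
  have hquot : ∀ e : E, e ⊗ₜ[A] (1 : A ⧸ Ideal.span {t}) = 0 ↔ e ∈ Ideal.span {T} := fun e => by
    have h1 : e ∈ (Ideal.span {t} • (⊤ : Submodule A E)) ↔ e ∈ Ideal.span {T} := by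
      rw [Ideal.smul_top_eq_map, Submodule.restrictScalars_mem, Ideal.map_span, Set.image_singleton]
    rw [← h1, ← Flatness.one_tmul_eq_zero_iff, ← (TensorProduct.comm A E (A ⧸ Ideal.span {t})).map_eq_zero_iff,
      TensorProduct.comm_tmul]
  obtain ⟨r, hr, hrz⟩ := hu (b ⊗ₜ 1) (by
    rw [TensorProduct.smul_tmul', smul_eq_mul]
    exact (hquot _).2 ((hJmem s).1 hs))
  rw [TensorProduct.smul_tmul', smul_eq_mul, hquot] at hrz
  exact hr (hJ𝔓 ((hJmem r).2 hrz))

end GrothLib.EtaMod10
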