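import Groth.Agent.Lib.EtaMod10.Algebra
import Groth.Agent.Lib.RegMor10.Fibre
import Groth.Agent.Lib.NormalExt.Basic
import Groth.Prelude.Def_Pi1
import Mathlib.AlgebraicGeometry.Morphisms.SchemeTheoreticallyDominant
import Mathlib.AlgebraicGeometry.Morphisms.Finite
import Mathlib.AlgebraicGeometry.FunctionField

/-!
# Finite η-modifications of flat schemes with separable fibres over a normal base
-/

set_option autoImplicit false
set_option linter.all false
set_option backward.isDefEq.respectTransparency false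

universe u

open CategoryTheory Limits AlgebraicGeometry TensorProduct

namespace GrothLib.EtaMod10

theorem isSchemeTheoreticallyDominant_generic {S : Scheme.{u}} [IsIntegral S] :
    IsSchemeTheoreticallyDominant (S.fromSpecStalk (genericPoint S)) := by
  haveI : IsDominant (S.fromSpecStalk (genericPoint S)) :=
    ⟨Dense.mono (by
      rintro _ rfl
      exact ⟨_, Scheme.fromSpecStalk_closedPoint⟩) (dense_iff_closure_eq.2 (genericPoint_spec S))⟩
  exact .of_isDominant _

theorem quasiCompact_generic {S : Scheme.{u}} [QuasiSeparatedSpace S] (s : S) :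
    QuasiCompact (S.fromSpecStalk s) :=
  MorphismProperty.of_postcomp @QuasiCompact (W' := @QuasiSeparated) _ (terminal.from S) inferInstance
    inferInstance

variable {S X X' : Scheme.{u}} [IsIntegral S] [CompactSpace S] [QuasiSeparatedSpace S] (φ : X ⟶ S) [Flat φ]

/-- Sections over an affine open become sections of the generic fibre after inverting the base. -/
theorem exists_generic_denominator {W : X.Opens} (hW : IsAffineOpen W) {V : S.Opens} (hV : IsAffineOpen V)
    [Nonempty V] (hWV : W ≤ φ ⁻¹ᵁ V)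
    (x : Γ(pullback φ (S.fromSpecStalk (genericPoint S)),
      pullback.fst φ (S.fromSpecStalk (genericPoint S)) ⁻¹ᵁ W)) :
    ∃ (a : Γ(S, V)) (e : Γ(X, W)), a ≠ 0 ∧
      IsUnit ((pullback.fst φ (S.fromSpecStalk (genericPoint S))).app W (φ.appLE V W hWV a)) ∧
      (pullback.fst φ (S.fromSpecStalk (genericPoint S))).app W (φ.appLE V W hWV a) * x =
      (pullback.fst φ (S.fromSpecStalk (genericPoint S))).app W e := by
  have hηV : (genericPoint S) ∈ V := ((genericPoint_spec S).mem_open_set_iff V.2).2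
    ⟨(Classical.arbitrary V).1, trivial, (Classical.arbitrary V).2⟩
  let k := pullback.fst φ (S.fromSpecStalk (genericPoint S))
  let g : Γ(S, V) ⟶ S.presheaf.stalk (genericPoint S) := S.presheaf.germ V (genericPoint S) hηV
  have h0 := (isPullback_morphismRestrict k W).paste_vert (IsPullback.of_hasPullback φ (S.fromSpecStalk (genericPoint S)))
  have e2 : (Spec.map g ≫ hV.isoSpec.inv) ≫ V.ι = S.fromSpecStalk (genericPoint S) := by
    rw [Category.assoc, IsAffineOpen.isoSpec_inv_ι]
    exact IsAffineOpen.fromSpecStalk_eq hV _ (genericPoint S) hηV _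
  have hsq : IsPullback (k ∣_ W) ((k ⁻¹ᵁ W).ι ≫ pullback.snd φ (S.fromSpecStalk (genericPoint S)))
      (φ.resLE V W hWV) (Spec.map g ≫ hV.isoSpec.inv) :=
    RegMor10.isPullback_cancel_mono (i := V.ι) (by rw [Scheme.Hom.resLE_comp_ι, e2]; exact h0)
  haveI : IsAffine W.toScheme := hW
  haveI : IsAffine V.toScheme := hV
  have hpo := (isPushout_appTop_of_isPullback hsq).of_iso
    (f' := φ.appLE V W hWV) (g' := g) (inl' := k.app W)
    (inr' := (Scheme.ΓSpecIso (S.presheaf.stalk (genericPoint S))).inv ≫ (pullback.snd φ (S.fromSpecStalk (genericPoint S))).appTop ≫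
      (pullback φ (S.fromSpecStalk (genericPoint S))).presheaf.map (homOfLE (le_top : k ⁻¹ᵁ W ≤ ⊤)).op)
    V.topIso W.topIso (Scheme.ΓSpecIso _) (k ⁻¹ᵁ W).topIso
    (by simp [Scheme.Hom.appTop])
    (by simp [Scheme.Hom.comp_appTop, IsAffineOpen.isoSpec_inv_appTop])
    (by simp [Scheme.Hom.appTop, morphismRestrict_app, Scheme.Hom.app_eq_appLE, Scheme.Opens.topIso])
    (by simp [Scheme.Hom.comp_appTop, Scheme.Opens.ι_appTop, Scheme.Opens.topIso, ← Functor.map_comp])
  letI := g.hom.toAlgebra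
  letI := (φ.appLE V W hWV).hom.toAlgebra
  letI : Algebra Γ(X, W) Γ(pullback φ (S.fromSpecStalk (genericPoint S)), k ⁻¹ᵁ W) := (k.app W).hom.toAlgebra
  letI : Algebra (S.presheaf.stalk (genericPoint S)) Γ(pullback φ (S.fromSpecStalk (genericPoint S)), k ⁻¹ᵁ W) :=
    ((Scheme.ΓSpecIso (S.presheaf.stalk (genericPoint S))).inv ≫ (pullback.snd φ (S.fromSpecStalk (genericPoint S))).appTop ≫
      (pullback φ (S.fromSpecStalk (genericPoint S))).presheaf.map (homOfLE (le_top : k ⁻¹ᵁ W ≤ ⊤)).op).hom.toAlgebra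
  letI : Algebra Γ(S, V) Γ(pullback φ (S.fromSpecStalk (genericPoint S)), k ⁻¹ᵁ W) :=
    ((k.app W).hom.comp (φ.appLE V W hWV).hom).toAlgebra
  haveI : IsScalarTower Γ(S, V) Γ(X, W) Γ(pullback φ (S.fromSpecStalk (genericPoint S)), k ⁻¹ᵁ W) :=
    IsScalarTower.of_algebraMap_eq fun _ => rfl
  haveI : IsScalarTower Γ(S, V) (S.presheaf.stalk (genericPoint S)) Γ(pullback φ (S.fromSpecStalk (genericPoint S)), k ⁻¹ᵁ W) :=
    IsScalarTower.of_algebraMap_eq fun r => congr($(hpo.w).hom r)
  haveI : Algebra.IsPushout Γ(S, V) Γ(X, W) (S.presheaf.stalk (genericPoint S)) Γ(pullback φ (S.fromSpecStalk (genericPoint S)), k ⁻¹ᵁ W) :=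
    CommRingCat.isPushout_iff_isPushout.1 hpo
  haveI hloc : IsLocalization.AtPrime (S.presheaf.stalk (genericPoint S)) (hV.primeIdealOf ⟨(genericPoint S), hηV⟩).asIdeal :=
    hV.isLocalization_stalk ⟨(genericPoint S), hηV⟩
  haveI hl := (Algebra.isLocalization_iff_isPushout (R := Γ(S, V))
    (S := (hV.primeIdealOf ⟨(genericPoint S), hηV⟩).asIdeal.primeCompl) (A := S.presheaf.stalk (genericPoint S))
    (T := Γ(X, W)) (B := Γ(pullback φ (S.fromSpecStalk (genericPoint S)), k ⁻¹ᵁ W))).2 inferInstance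
  obtain ⟨⟨e, ⟨y, a, ha, hy⟩⟩, he⟩ := IsLocalization.surj
    (Algebra.algebraMapSubmonoid Γ(X, W) (hV.primeIdealOf ⟨(genericPoint S), hηV⟩).asIdeal.primeCompl) x
  have hu := IsLocalization.map_units Γ(pullback φ (S.fromSpecStalk (genericPoint S)), k ⁻¹ᵁ W)
    (⟨y, a, ha, hy⟩ : Algebra.algebraMapSubmonoid Γ(X, W) (hV.primeIdealOf ⟨(genericPoint S), hηV⟩).asIdeal.primeCompl)
  subst hy
  refine ⟨a, e, fun h => ha (h ▸ Submodule.zero_mem _), hu, ?_⟩
  exact (mul_comm _ _).trans he

theorem bijective_app (hS : Pi1.IsNormalScheme S) [LocallyOfFinitePresentation φ]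
    (hred : ∀ (K : Type u) [Field K] (k : Spec (CommRingCat.of K) ⟶ S), IsReduced (pullback φ k))
    (f : X' ⟶ X) [IsFinite f] (U : X.Opens) (hU' : IsSchemeTheoreticallyDominant (f ⁻¹ᵁ U).ι)
    (hfU : IsIso (f ∣_ U))
    (hη : IsIso (pullback.snd f (pullback.fst φ (S.fromSpecStalk (genericPoint S)))))
    {W : X.Opens} (hW : IsAffineOpen W) {V : S.Opens} (hV : IsAffineOpen V) [Nonempty V]
    (hWV : W ≤ φ ⁻¹ᵁ V) : Function.Bijective (f.app W) := by
  haveI := isSchemeTheoreticallyDominant_generic (S := S)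
  haveI := quasiCompact_generic (S := S) (genericPoint S)
  let ι := S.fromSpecStalk (genericPoint S)
  let k := pullback.fst φ ι
  let j := pullback.fst f k
  let q := pullback.snd f k
  haveI : IsIso q := hη
  have hkinj : Function.Injective (k.app W) := k.app_injective W
  -- the generic fibre of `X'` is schematically dense
  haveI hjd : IsSchemeTheoreticallyDominant j := by
    constructor
    rw [eq_bot_iff, ← hU'.ker_eq_bot]
    refine Scheme.IdealSheafData.le_ofIdeals_iff.2 fun V' s hs => ?_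
    rw [Scheme.Hom.ker_apply, RingHom.mem_ker] at hs
    rw [RingHom.mem_ker]
    let a := (f ⁻¹ᵁ U).ι ≫ f ≫ φ
    haveI : Flat a := by
      have : a = (f ∣_ U) ≫ U.ι ≫ φ := by rw [morphismRestrict_ι_assoc]
      rw [this]; infer_instance
    let jU := pullback.fst a ι
    let m : pullback a ι ⟶ pullback f k := pullback.lift (jU ≫ (f ⁻¹ᵁ U).ι)
      (pullback.lift (jU ≫ (f ⁻¹ᵁ U).ι ≫ f) (pullback.snd a ι)
        (by simp only [Category.assoc]; exact pullback.condition))
      (by simp [k])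
    have hm : m ≫ j = jU ≫ (f ⁻¹ᵁ U).ι := pullback.lift_fst _ _ _
    apply jU.app_injective ((f ⁻¹ᵁ U).ι ⁻¹ᵁ V'.1)
    rw [map_zero]
    have h1 := congr($(Scheme.Hom.congr_app hm V'.1) s)
    simp only [Scheme.Hom.comp_app, CommRingCat.comp_apply, hs, map_zero] at h1
    exact (ConcreteCategory.bijective_of_isIso
      ((pullback a ι).presheaf.map (eqToHom (congrArg (· ⁻¹ᵁ V'.1) hm)).op)).1 (by
        rw [map_zero]; exact h1.symm)
  have hjinj : Function.Injective (j.app (f ⁻¹ᵁ W)) := j.app_injective _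
  have hw : j ≫ f = q ≫ k := pullback.condition
  have hqk : ∀ s : Γ(X, W), j.app (f ⁻¹ᵁ W) (f.app W s) =
      ((pullback f k).presheaf.map (eqToHom (congrArg (· ⁻¹ᵁ W) hw)).op) (q.app (k ⁻¹ᵁ W) (k.app W s)) :=
    fun s => congr($(Scheme.Hom.congr_app hw W) s)
  let Q := q.app (k ⁻¹ᵁ W) ≫ (pullback f k).presheaf.map (eqToHom (congrArg (· ⁻¹ᵁ W) hw)).op
  have hQ : Function.Bijective Q.hom := ConcreteCategory.bijective_of_isIso Q
  have hfinj : Function.Injective (f.app W) := by
    rw [injective_iff_map_eq_zero]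
    intro s hs
    apply hkinj
    rw [map_zero]
    apply hQ.1
    rw [map_zero]
    exact (hqk s).symm.trans (by rw [hs, map_zero])
  refine ⟨hfinj, fun b => ?_⟩
  letI := (φ.appLE V W hWV).hom.toAlgebra
  haveI : Module.Flat Γ(S, V) Γ(X, W) := φ.flat_appLE hV hW hWV
  haveI : Algebra.FinitePresentation Γ(S, V) Γ(X, W) :=
    LocallyOfFinitePresentation.finitePresentation_appLE φ hV hW hWV
  haveI : IsIntegrallyClosed Γ(S, V) := NormalExt.isIntegrallyClosed_Γ (fun y => (hS y).2) V hV
  have hredA : ∀ (K : Type u) [Field K] [Algebra Γ(S, V) K], _root_.IsReduced (K ⊗[Γ(S, V)] Γ(X, W)) := by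
    intro K _ _
    haveI := hred K (Spec.map (CommRingCat.ofHom (algebraMap Γ(S, V) K)) ≫ hV.fromSpec)
    let c : pullback (Spec.map (φ.appLE V W hWV)) (Spec.map (CommRingCat.ofHom (algebraMap Γ(S, V) K))) ⟶
        pullback φ (Spec.map (CommRingCat.ofHom (algebraMap Γ(S, V) K)) ≫ hV.fromSpec) :=
      pullback.map _ _ _ _ hW.fromSpec (𝟙 _) hV.fromSpec
        (IsAffineOpen.SpecMap_appLE_fromSpec φ hV hW hWV) (by simp)
    haveI : IsOpenImmersion c := inferInstance
    haveI : AlgebraicGeometry.IsReduced (pullback (Spec.map (φ.appLE V W hWV))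
        (Spec.map (CommRingCat.ofHom (algebraMap Γ(S, V) K)))) := isReduced_of_isOpenImmersion c
    haveI : AlgebraicGeometry.IsReduced (Spec (CommRingCat.of (Γ(X, W) ⊗[Γ(S, V)] K))) :=
      isReduced_of_isOpenImmersion (pullbackSpecIso Γ(S, V) Γ(X, W) K).inv
    haveI : _root_.IsReduced (Γ(X, W) ⊗[Γ(S, V)] K) :=
      (affine_isReduced_iff (CommRingCat.of (Γ(X, W) ⊗[Γ(S, V)] K))).1 inferInstance
    exact isReduced_of_injective _ (Algebra.TensorProduct.comm Γ(S, V) K Γ(X, W)).injective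
  obtain ⟨x, hx⟩ := hQ.2 (j.app (f ⁻¹ᵁ W) b)
  obtain ⟨a, e, ha, hau, hae⟩ := exists_generic_denominator φ hW hV hWV x
  let T := φ.appLE V W hWV a
  have hab : f.app W T * b = f.app W e := by
    apply hjinj
    rw [map_mul, hqk, hqk, ← hx]
    show Q.hom (k.app W T) * Q.hom x = Q.hom (k.app W e)
    rw [← map_mul, hae]
  obtain ⟨p, hp, hpb⟩ := (IsFinite.finite_app (f := f) W hW).to_isIntegral b
  have he0 : (p.scaleRoots T).eval e = 0 := by
    apply hfinj
    rw [map_zero, ← Polynomial.eval₂_id, Polynomial.hom_eval₂, RingHom.comp_id]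
    show (p.scaleRoots T).eval₂ (f.app W).hom ((f.app W) e) = 0
    rw [← hab]
    exact Polynomial.scaleRoots_eval₂_eq_zero _ hpb
  have hmem := mem_span_of_flat_fp (E := Γ(X, W)) hredA a ha e p hp he0
  obtain ⟨e', he'⟩ := Ideal.mem_span_singleton'.1 hmem
  refine ⟨e', ?_⟩
  have h0 : f.app W T * (b - f.app W e') = 0 := by
    rw [mul_sub, hab, ← map_mul, mul_comm T e', show e' * T = e from he', sub_self]
  -- cancel `a` on the generic fibre
  symm
  rw [← sub_eq_zero]
  apply hjinj
  rw [map_zero]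
  have hu : IsUnit (j.app (f ⁻¹ᵁ W) (f.app W T)) := by
    rw [hqk]
    exact IsUnit.map _ (IsUnit.map _ hau)
  apply hu.mul_right_eq_zero.1
  rw [← map_mul, h0, map_zero]

end GrothLib.EtaMod10
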